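import Mathlib

/-!
# Automorphisms of odd order centralising a Sylow 2-subgroup (helper21)

* `fix_normalizer` : an automorphism `α` with `α ^ m = 1`, `m` odd, which fixes pointwise a 2-subgroup `Q` with
  `C(Q) ≤ Q` fixes pointwise `N(Q)`;
* `eq_one_of_gen` : the automorphism is trivial if the group is generated by such normalisers;
* `exists_frattini` : an automorphism of prime power order modulo inner ones is an inner one times one which normalises
  a given Sylow 2-subgroup and has `p`-power order;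
* `inner_of_gen` : if every automorphism of `p`-power order normalising the Sylow 2-subgroup `S` centralises `S`, and
  the group is generated by the normalisers of 2-subgroups `Q ≤ S` with `C(Q) ≤ Q`, then every automorphism of order `p`
  is inner.
-/

set_option autoImplicit false

namespace Cfsg.Agent.CpAut.Tools

open Subgroup
open scoped Pointwise

variable {K : Type*} [Group K]

/-- An automorphism of odd order fixing pointwise the 2-subgroup `Q` with `C(Q) ≤ Q` fixes pointwise `N(Q)`. -/
theorem fix_normalizer {Q : Subgroup K} (hQ2 : IsPGroup 2 Q) (hC : centralizer (Q : Set K) ≤ Q) {α : MulAut K}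
    {m : ℕ} (hm : Odd m) (hα : α ^ m = 1) (hQ : ∀ q ∈ Q, α q = q) {g : K} (hg : g ∈ normalizer (Q : Set K)) :
    α g = g := by
  obtain ⟨c, hc⟩ : ∃ c, c = g⁻¹ * α g := ⟨_, rfl⟩
  have hcQ : c ∈ Q := by
    apply hC
    rw [mem_centralizer_iff]
    intro q hq
    have h1 : g * q * g⁻¹ ∈ Q := (mem_normalizer_iff.1 hg q).1 hq
    have h2 := hQ _ h1
    rw [map_mul, map_mul, map_inv, hQ q hq] at h2
    have h3 : α g * q = g * q * g⁻¹ * α g := by rw [← h2]; group
    rw [hc]
    calc q * (g⁻¹ * α g) = g⁻¹ * (g * q * g⁻¹ * α g) := by group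
      _ = g⁻¹ * (α g * q) := by rw [h3]
      _ = g⁻¹ * α g * q := by group
  have hαg : α g = g * c := by rw [hc]; group
  have hpow : ∀ k : ℕ, (α ^ k) g = g * c ^ k := by
    intro k
    induction k with
    | zero => rw [pow_zero, pow_zero, mul_one]; rfl
    | succ k ih =>
      rw [pow_succ', MulAut.mul_apply, ih, map_mul, map_pow, hQ c hcQ, hαg, mul_assoc, ← pow_succ']
  have h1 := hpow m
  rw [hα] at h1
  have h2 : c ^ m = 1 := by
    have : g * c ^ m = g := h1.symm
    exact mul_eq_left.1 this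
  obtain ⟨k, hk⟩ := hQ2 ⟨c, hcQ⟩
  have h3 : c ^ 2 ^ k = 1 := congrArg Subtype.val hk
  have h4 : orderOf c ∣ m := orderOf_dvd_of_pow_eq_one h2
  have h5 : orderOf c ∣ 2 ^ k := orderOf_dvd_of_pow_eq_one h3
  have h6 : Nat.Coprime m (2 ^ k) := Nat.Coprime.pow_right k hm.coprime_two_right
  have h7 : orderOf c = 1 := Nat.eq_one_of_dvd_coprimes h6 h4 h5
  rw [hαg, orderOf_eq_one_iff.1 h7, mul_one]

/-- Generation by such normalisers. -/
theorem eq_one_of_gen {S : Subgroup K} {α : MulAut K} {m : ℕ} (hm : Odd m) (hα : α ^ m = 1)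
    (hS : ∀ s ∈ S, α s = s) (h2 : IsPGroup 2 S)
    (hgen : ∀ H : Subgroup K, (∀ Q : Subgroup K, Q ≤ S → centralizer (Q : Set K) ≤ Q →
      normalizer (Q : Set K) ≤ H) → H = ⊤) : α = 1 := by
  let H : Subgroup K :=
    { carrier := {g | α g = g}
      one_mem' := map_one α
      mul_mem' := fun {a b} ha hb => by
        change α (a * b) = a * b
        rw [map_mul, show α a = a from ha, show α b = b from hb]
      inv_mem' := fun {a} ha => by
        change α a⁻¹ = a⁻¹
        rw [map_inv, show α a = a from ha] }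
  have h1 : H = ⊤ := hgen H fun Q hQS hQC g hg =>
    fix_normalizer (h2.to_le hQS) hQC hm hα (fun q hq => hS q (hQS hq)) hg
  ext g
  have h3 : g ∈ H := by rw [h1]; trivial
  exact h3

section Finite

variable [Finite K]

/-- **Frattini.** Modulo inner automorphisms, an automorphism of order `p` can be replaced by one of `p`-power order
which normalises the Sylow subgroup `S`. -/
theorem exists_frattini {r p : ℕ} [Fact r.Prime] (hp : p.Prime) (S : Sylow r K) {x : MulAut K} (hx : x ^ p = 1)
    (hno : x ∉ (MulAut.conj : K →* MulAut K).range) :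
    ∃ (β : MulAut K) (k : ℕ), β ^ p ^ k = 1 ∧ β ∉ (MulAut.conj : K →* MulAut K).range ∧
      (∀ s, β s ∈ (S : Subgroup K) ↔ s ∈ (S : Subgroup K)) := by
  have : Fact p.Prime := ⟨hp⟩
  -- `y = conj g * x` normalises `S`
  obtain ⟨g, hg⟩ := MulAction.exists_smul_eq K (x • S) S
  obtain ⟨y, hy⟩ : ∃ y, y = MulAut.conj g * x := ⟨_, rfl⟩
  have hyS : ∀ s, y s ∈ (S : Subgroup K) ↔ s ∈ (S : Subgroup K) := by
    intro s
    have h1 : (g • (x • S) : Sylow r K) = y • S := by
      rw [hy, mul_smul]; rfl
    rw [hg] at h1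
    have h2 : (S : Subgroup K) = y • (S : Subgroup K) := congrArg (fun P : Sylow r K => (P : Subgroup K)) h1
    conv_lhs => rw [h2]
    have h3 : y s = y • s := rfl
    rw [h3, Subgroup.smul_mem_pointwise_smul_iff]
  have hyno : ∀ m : ℕ, m.Coprime p → y ^ m ∉ (MulAut.conj : K →* MulAut K).range := by
    intro m hm h1
    -- the coset of `y` is the coset of `x`, of order `p`
    let N : Subgroup (MulAut K) := (MulAut.conj : K →* MulAut K).range
    have hN : N.Normal := by
      refine ⟨?_⟩
      rintro _ ⟨a, rfl⟩ φ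
      refine ⟨φ a, ?_⟩
      ext b
      simp [MulAut.conj_apply]
    have h2 : (QuotientGroup.mk' N y) = QuotientGroup.mk' N x := by
      rw [hy, map_mul]
      have : QuotientGroup.mk' N (MulAut.conj g) = 1 := (QuotientGroup.eq_one_iff _).2 ⟨g, rfl⟩
      rw [this, one_mul]
    have h3 : (QuotientGroup.mk' N x) ^ m = 1 := by
      rw [← h2, ← map_pow]
      exact (QuotientGroup.eq_one_iff _).2 h1
    have h4 : (QuotientGroup.mk' N x) ^ p = 1 := by
      rw [← map_pow, hx, map_one]
    have h5 : QuotientGroup.mk' N x = 1 := by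
      have h6 := Nat.eq_one_of_dvd_coprimes hm (orderOf_dvd_of_pow_eq_one h3) (orderOf_dvd_of_pow_eq_one h4)
      exact orderOf_eq_one_iff.1 h6
    exact hno ((QuotientGroup.eq_one_iff _).1 h5)
  -- the `p`-part of `y`
  have hfin : IsOfFinOrder y := isOfFinOrder_of_finite y
  have hpos : 0 < orderOf y := hfin.orderOf_pos
  obtain ⟨k, m, hm, he⟩ := Nat.exists_eq_pow_mul_and_not_dvd hpos.ne' p hp.ne_one
  refine ⟨y ^ m, k, ?_, hyno m ?_, ?_⟩
  · rw [← pow_mul, mul_comm, ← he, pow_orderOf_eq_one]
  · exact ((Nat.Prime.coprime_iff_not_dvd hp).2 hm).symm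
  · intro s
    have h1 : ∀ j : ℕ, ∀ s, (y ^ j) s ∈ (S : Subgroup K) ↔ s ∈ (S : Subgroup K) := by
      intro j
      induction j with
      | zero => intro s; rw [pow_zero]; rfl
      | succ j ih => intro s; rw [pow_succ, MulAut.mul_apply, ih, hyS]
    exact h1 m s

/-- If `p`-automorphisms normalising `S` centralise `S` and the 2-constrained 2-local subgroups over `S` generate the
group, then the automorphisms of order `p` are inner. -/
theorem inner_of_gen {p : ℕ} (hp : p.Prime) (hp2 : p ≠ 2) (S : Sylow 2 K)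
    (hS : ∀ (β : MulAut K) (k : ℕ), β ^ p ^ k = 1 → (∀ s, β s ∈ (S : Subgroup K) ↔ s ∈ (S : Subgroup K)) →
      ∀ s ∈ (S : Subgroup K), β s = s)
    (hgen : ∀ H : Subgroup K, (∀ Q : Subgroup K, Q ≤ S → centralizer (Q : Set K) ≤ Q →
      normalizer (Q : Set K) ≤ H) → H = ⊤)
    {x : MulAut K} (hx : orderOf x = p) : ∃ g : K, x = MulAut.conj g := by
  by_contra hno
  have h1 : x ∉ (MulAut.conj : K →* MulAut K).range := by
    rintro ⟨g, hg⟩
    exact hno ⟨g, hg.symm⟩
  obtain ⟨β, k, hβ, hβno, hβS⟩ := exists_frattini hp S (by rw [← hx]; exact pow_orderOf_eq_one x) h1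
  apply hβno
  have hodd : Odd (p ^ k) := (hp.odd_of_ne_two hp2).pow
  rw [eq_one_of_gen hodd hβ (hS β k hβ hβS) S.isPGroup' hgen]
  exact one_mem _

end Finite

end Cfsg.Agent.CpAut.Tools
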